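import Groth.Agent.SGA3x.K197.RatNodes
import Groth.Agent.SGA3x.K10.MTKer
import Groth.Agent.SGA3x.K13.HC.Tors
import Groth.Agent.AbSch.K452.NRep
import Groth.Agent.AbSch.K454.TorSec
import Groth.Agent.Sga7.H740.Comm
import Groth.Agent.S5247

/-!
# The centralizer of the `p`-torsion of a torus is closed and smooth
-/

set_option autoImplicit false
universe u
open CategoryTheory MonoidalCategory CartesianMonoidalCategory MonObj GrpObj AlgebraicGeometry Limits
open Groth.Agent.Books.AffBridge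

namespace K646.TorCent

variable {S : Scheme.{u}}

/-- The `n`-torsion of a group of multiplicative type: a closed subgroup of multiplicative type. -/
theorem exists_tors {T : Over S} [GrpObj T] (hT : SGA3x.IsMultTypeFT T) (n : ℕ) :
    ∃ (N : Over S) (_ : GrpObj N) (j : N ⟶ T), IsMonHom j ∧ Mono j ∧ SGA3x.IsMultTypeFT N ∧
      ∀ (X : Over S) (x : X ⟶ T), (∃ z : X ⟶ N, z ≫ j = x) ↔ x ^ n = 1 := by
  have hc : IsCommMonObj T := by
    apply Groth.Agent.Sga7.H740.Comm.isCommMonObj_of_fst_snd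
    exact K13.HC.Tors.mul_comm_of_FT hT _ _ _
  obtain ⟨N, _, _, j, hj, hpb⟩ := K452.NRep.exists_torsion T (n : ℤ)
  have hη : Mono η[T] := ⟨fun a b _ => toUnit_unique a b⟩
  have hm : Mono j := by
    have : Mono η[T] := hη
    exact MorphismProperty.of_isPullback (P := MorphismProperty.monomorphisms (Over S)) hpb.flip this
  have hpow : ∀ (X : Over S) (x : X ⟶ T), x ≫ (𝟙 T ^ (n : ℤ)) = x ^ n := by
    intro X x
    rw [zpow_natCast, MonObj.comp_pow, Category.comp_id]
  have hiff : ∀ (X : Over S) (x : X ⟶ T), (∃ z : X ⟶ N, z ≫ j = x) ↔ x ^ n = 1 := by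
    intro X x
    constructor
    · rintro ⟨z, rfl⟩
      have h1 : z ≫ j ≫ (𝟙 T ^ (n : ℤ)) = z ≫ toUnit N ≫ η[T] := congrArg (fun k => z ≫ k) hpb.w
      rw [← Category.assoc, hpow] at h1
      rw [h1, ← Category.assoc, Hom.one_def]
      congr 1
      exact toUnit_unique _ _
    · intro h
      refine ⟨hpb.lift x (toUnit X) ?_, hpb.lift_fst _ _ _⟩
      rw [hpow, h, Hom.one_def]
  refine ⟨N, inferInstance, j, hj, hm, ?_, hiff⟩
  have h1 : IsAffineHom T.hom := K10.MTLoc.isAffineHom hT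
  have h2 : LocallyOfFinitePresentation T.hom := K10.MTLoc.locallyOfFinitePresentation hT
  have h3 : IsMonHom (𝟙 T ^ (n : ℤ)) := Groth.Agent.Grpsch.MulFinFlat.isMonHom_zpow (𝟙 T) n
  exact K10.MTKer.isMultTypeFT_kernel hT (𝟙 T ^ (n : ℤ)) j fun X x => by rw [hpow]; exact hiff X x

/-- **The centralizer of the `n`-torsion** of a group of multiplicative type in a smooth affine group. -/
theorem exists_centralizer {G T : Over S} [GrpObj G] [GrpObj T] [Smooth G.hom] [IsAffineHom G.hom]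
    (hT : SGA3x.IsMultTypeFT T) (i : T ⟶ G) [IsMonHom i] (n : ℕ) :
    ∃ (Z : Over S) (_ : GrpObj Z) (j : Z ⟶ G), IsMonHom j ∧ IsClosedImmersion j.left ∧ Smooth Z.hom ∧
      ∀ (X : Over S) (g : X ⟶ G), (∃ z : X ⟶ Z, z ≫ j = g) ↔
        ∀ (X' : Over S) (a : X' ⟶ X) (b : X' ⟶ T), b ^ n = 1 → (a ≫ g) * (b ≫ i) = (b ≫ i) * (a ≫ g) := by
  obtain ⟨N, _, ν, hν, hm, hN, hiff⟩ := exists_tors hT n
  obtain ⟨Z, _, j, ⟨h1, h2, h3⟩, h4, h5⟩ := Groth.Agent.S5247.result N G hN inferInstance inferInstance (ν ≫ i)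
  refine ⟨Z, inferInstance, j, h1, h4, h5, fun X g => (h3 X g).trans ?_⟩
  constructor
  · intro h X' a b hb
    obtain ⟨z, rfl⟩ := (hiff X' b).mpr hb
    have := h X' a z
    rwa [Category.assoc]
  · intro h X' a z
    have := h X' a (z ≫ ν) ((hiff X' _).mp ⟨z, rfl⟩)
    rwa [Category.assoc] at this

/-- Node N11. -/
theorem main : K197.Rat.N11_torsionCent.{u} := by
  intro k A _ _ _ _ T _ i _ hT p
  have h1 : IsAffineHom (SpecOver k A).hom := by
    dsimp [SpecOver]
    infer_instance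
  exact exists_centralizer (K454.TorSec.isMultTypeFT_of_isTorus hT) i p

end K646.TorCent
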