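import Groth.Agent.SGA3x.K197.RatNodes3
import Groth.Agent.SGA3x.K796.Dict
import Mathlib.RingTheory.HopfAlgebra.Quotient

/-!
# The stabilizer of a subspace of the Lie algebra is a closed subgroup scheme

* `exists_frame`: equations of `spanUp E R W`;
* `Stab.mul`, `Stab.inv`, `Stab.ptMap`: the stabilizer is a functor in groups;
* `exists_ideal`: it is represented by an ideal of the Hopf algebra `B₀` of the base change;
* `isHopfIdeal`: which is a Hopf ideal.
-/

set_option autoImplicit false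
universe u
open CategoryTheory MonoidalCategory CartesianMonoidalCategory MonObj GrpObj AlgebraicGeometry Limits
open Groth.Agent.Books.AffBridge WithConv K197.Rat

namespace K646.RatStab

noncomputable section

variable {k E A : Type u} [Field k] [Field E] [Algebra k E] [CommRing A] [HopfAlgebra k A]

section span

variable {R R' : Type u} [CommRing R] [Algebra k R] [Algebra E R] [IsScalarTower k E R]
  [CommRing R'] [Algebra k R'] [Algebra E R'] [IsScalarTower k E R']

lemma up_mem {W : Submodule E (Cv k A E)} {D : Cv k A E} (h : D ∈ W) : up E R D ∈ spanUp E R W :=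
  Submodule.subset_span ⟨D, h, rfl⟩

lemma isDer_of_mem {W : Submodule E (Cv k A E)} (hW : ∀ D ∈ W, IsDer D) {D : Cv k A R} (h : D ∈ spanUp E R W) :
    IsDer D := by
  induction h using Submodule.span_induction with
  | mem x hx =>
    obtain ⟨y, hy, rfl⟩ := hx
    exact (hW y hy).up
  | zero => exact isDer_zero
  | add x y _ _ hx hy => exact hx.add hy
  | smul r x _ hx => exact hx.smul r

/-- change of coefficients along `E`-algebra maps -/
lemma cvMap_up (f : R →ₐ[E] R') (D : Cv k A E) :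
    cvMap (f.restrictScalars k) (up E R D) = up E R' D := by
  apply WithConv.ext
  ext a
  exact f.commutes (D a)

lemma cvMap_mem {W : Submodule E (Cv k A E)} (f : R →ₐ[E] R') {D : Cv k A R} (h : D ∈ spanUp E R W) :
    cvMap (f.restrictScalars k) D ∈ spanUp E R' W := by
  induction h using Submodule.span_induction with
  | mem x hx =>
    obtain ⟨y, hy, rfl⟩ := hx
    rw [cvMap_up]
    exact up_mem hy
  | zero => rw [map_zero]; exact zero_mem _
  | add x y _ _ hx hy => rw [map_add]; exact add_mem hx hy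
  | smul r x _ hx => rw [cvMap_smul]; exact Submodule.smul_mem _ _ hx

end span

section stab

variable {R R' : Type u} [CommRing R] [Algebra k R] [Algebra E R] [IsScalarTower k E R]
  [CommRing R'] [Algebra k R'] [Algebra E R'] [IsScalarTower k E R']
variable {W : Submodule E (Cv k A E)}

lemma stab_iff {φ : Pt k A R} : Stab W φ ↔
    ∀ D ∈ spanUp E R W, Ad φ D ∈ spanUp E R W ∧ Ad φ⁻¹ D ∈ spanUp E R W := by
  constructor
  · intro h D hD
    induction hD using Submodule.span_induction with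
    | mem x hx =>
      obtain ⟨y, hy, rfl⟩ := hx
      exact h y hy
    | zero => rw [Ad_zero, Ad_zero]; exact ⟨zero_mem _, zero_mem _⟩
    | add x y _ _ hx hy => rw [Ad_add, Ad_add]; exact ⟨add_mem hx.1 hy.1, add_mem hx.2 hy.2⟩
    | smul r x _ hx =>
      rw [Ad_smul, Ad_smul]
      exact ⟨Submodule.smul_mem _ _ hx.1, Submodule.smul_mem _ _ hx.2⟩
  · intro h D hD
    exact h _ (up_mem hD)

lemma stab_one : Stab W (1 : Pt k A R) := by
  rw [stab_iff]
  intro D hD
  rw [inv_one, Ad_one]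
  exact ⟨hD, hD⟩

lemma stab_inv {φ : Pt k A R} (h : Stab W φ) : Stab W φ⁻¹ := by
  intro D hD
  rw [_root_.inv_inv]
  exact (h D hD).symm

lemma stab_mul {φ φ' : Pt k A R} (h : Stab W φ) (h' : Stab W φ') : Stab W (φ * φ') := by
  rw [stab_iff] at h h' ⊢
  intro D hD
  rw [_root_.mul_inv_rev, ← Ad_Ad, ← Ad_Ad]
  exact ⟨(h _ (h' D hD).1).1, (h' _ (h D hD).2).2⟩

lemma stab_ptMap (f : R →ₐ[E] R') {φ : Pt k A R} (h : Stab W φ) : Stab W (ptMap (f.restrictScalars k) φ) := by
  intro D hD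
  rw [← map_inv, ← cvMap_up f, ← cvMap_Ad, ← cvMap_Ad]
  exact ⟨cvMap_mem f (h D hD).1, cvMap_mem f (h D hD).2⟩

end stab

section frame

variable [Algebra.FiniteType k A]

/-- **Equations of the submodules generated by a subspace of the Lie algebra.** -/
theorem exists_frame (W : Submodule E (Cv k A E)) (hW : ∀ D ∈ W, IsDer D) :
    ∃ (n : ℕ) (x : Fin n → A) (P : Fin n → Fin n → E) (d : Fin n → Cv k A E), (∀ i, d i ∈ W) ∧
      (∀ D ∈ W, D = ∑ i, D (x i) • d i) ∧
      ∀ (R : Type u) [CommRing R] [Algebra k R] [Algebra E R] [IsScalarTower k E R] (D : Cv k A R), IsDer D →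
        (D ∈ spanUp E R W ↔ ∀ l, D (x l) = ∑ i, algebraMap E R (P l i) * D (x i)) := by
  classical
  obtain ⟨n, e, x, he, hex, hD⟩ := exists_coord (k := k) (A := A)
  let c : Cv k A E →ₗ[E] (Fin n → E) := LinearMap.pi fun i => evD (x i)
  let V : Submodule E (Fin n → E) := W.map c
  obtain ⟨p, hp⟩ := V.subtype.exists_leftInverse_of_injective (LinearMap.ker_eq_bot.2 V.injective_subtype)
  have hpv : ∀ v (hv : v ∈ V), p v = ⟨v, hv⟩ := fun v hv => LinearMap.congr_fun hp ⟨v, hv⟩
  have hmem : ∀ i : Fin n, ∃ D ∈ W, c D = (p (Pi.single i 1) : Fin n → E) := fun i => (p (Pi.single i 1)).2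
  choose d hdW hd using hmem
  let P : Fin n → Fin n → E := fun l i => (p (Pi.single i 1) : Fin n → E) l
  have hdx : ∀ i l, d i (x l) = P l i := fun i l => congrFun (hd i) l
  have hPv : ∀ (v : Fin n → E) (l : Fin n), (p v : Fin n → E) l = ∑ i, P l i * v i := by
    intro v l
    have h1 : v = ∑ i, v i • (Pi.single i 1 : Fin n → E) := by
      ext j
      simp [Finset.sum_apply, Pi.single_apply]
    conv_lhs => rw [h1]
    rw [map_sum, Submodule.coe_sum, Finset.sum_apply]
    refine Finset.sum_congr rfl fun i _ => ?_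
    rw [map_smul, Submodule.coe_smul, Pi.smul_apply, smul_eq_mul, _root_.mul_comm]
  have hWP : ∀ D ∈ W, ∀ l, D (x l) = ∑ i, P l i * D (x i) := by
    intro D hDW l
    have h1 := hpv (c D) ⟨D, hDW, rfl⟩
    have h2 := hPv (c D) l
    rw [h1] at h2
    exact h2
  have hexp : ∀ D ∈ W, D = ∑ i, D (x i) • d i := by
    intro D hDW
    have h1 : IsDer (∑ i, D (x i) • d i) := isDer_sum _ _ fun i _ => (hW _ (hdW i)).smul _
    have h2 := hD E D (hW D hDW)
    have h3 := hD E _ h1
    rw [h3]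
    conv_lhs => rw [h2]
    refine Finset.sum_congr rfl fun l _ => ?_
    congr 1
    rw [K197.Rat.sum_apply, hWP D hDW l]
    refine Finset.sum_congr rfl fun i _ => ?_
    rw [smul_apply', hdx, _root_.mul_comm]
  refine ⟨n, x, P, d, hdW, hexp, ?_⟩
  intro R _ _ _ _ D hDer
  constructor
  · intro h
    induction h using Submodule.span_induction with
    | mem y hy =>
      obtain ⟨z, hz, rfl⟩ := hy
      intro l
      rw [up_apply, hWP z hz l, map_sum]
      refine Finset.sum_congr rfl fun i _ => ?_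
      rw [map_mul]
      rfl
    | zero =>
      intro l
      simp
    | add y z hy' hz' hy hz =>
      intro l
      have h1 := hy (isDer_of_mem hW hy') l
      have h2 := hz (isDer_of_mem hW hz') l
      rw [add_apply', h1, h2, ← Finset.sum_add_distrib]
      refine Finset.sum_congr rfl fun i _ => ?_
      rw [add_apply', mul_add]
    | smul r y hy' hy =>
      intro l
      have h1 := hy (isDer_of_mem hW hy') l
      rw [smul_apply', h1, Finset.mul_sum]
      refine Finset.sum_congr rfl fun i _ => ?_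
      rw [smul_apply', mul_left_comm]
  · intro h
    have h1 : D = ∑ i, D (x i) • up E R (d i) := by
      have h2 := hD R D hDer
      have h3 : ∀ i, (up E R (d i) : Cv k A R) = ∑ l, algebraMap E R (P l i) • up k R (e l) := by
        intro i
        have h4 := hD E (d i) (hW _ (hdW i))
        conv_lhs => rw [h4]
        rw [up_sum]
        refine Finset.sum_congr rfl fun l _ => ?_
        rw [up_smul, hdx, up_up]
      simp_rw [h3, Finset.smul_sum]
      rw [Finset.sum_comm]
      conv_lhs => rw [h2]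
      refine Finset.sum_congr rfl fun l _ => ?_
      rw [h l, Finset.sum_smul]
      refine Finset.sum_congr rfl fun i _ => ?_
      rw [smul_smul, _root_.mul_comm]
    rw [h1]
    exact Submodule.sum_mem _ fun i _ => Submodule.smul_mem _ _ (up_mem (hdW i))

/-- Equations of the stabilizer. -/
theorem exists_eqs (W : Submodule E (Cv k A E)) (hW : ∀ D ∈ W, IsDer D)
    {B₀ : Type u} [CommRing B₀] [Algebra k B₀] [Algebra E B₀] [IsScalarTower k E B₀] (u : Pt k A B₀) :
    ∃ I : Ideal B₀, ∀ (R : Type u) [CommRing R] [Algebra k R] [Algebra E R] [IsScalarTower k E R]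
      (f : B₀ →ₐ[E] R), (∀ b ∈ I, f b = 0) ↔ Stab W (ptMap (f.restrictScalars k) u) := by
  obtain ⟨n, x, P, d, hdW, hexp, hiff⟩ := exists_frame W hW
  let g : Pt k A B₀ → Fin n → Fin n → B₀ := fun v i l =>
    (Ad v (up E B₀ (d i)) : Cv k A B₀) (x l) -
      ∑ m, algebraMap E B₀ (P l m) * (Ad v (up E B₀ (d i)) : Cv k A B₀) (x m)
  have key : ∀ (v : Pt k A B₀) (R : Type u) [CommRing R] [Algebra k R] [Algebra E R] [IsScalarTower k E R]
      (f : B₀ →ₐ[E] R), (∀ i l, f (g v i l) = 0) ↔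
        ∀ D ∈ W, Ad (ptMap (f.restrictScalars k) v) (up E R D) ∈ spanUp E R W := by
    intro v R _ _ _ _ f
    have h1 : ∀ i, Ad (ptMap (f.restrictScalars k) v) (up E R (d i)) =
        cvMap (f.restrictScalars k) (Ad v (up E B₀ (d i))) := by
      intro i
      rw [cvMap_Ad, cvMap_up]
    have h2 : ∀ i, (∀ l, f (g v i l) = 0) ↔ Ad (ptMap (f.restrictScalars k) v) (up E R (d i)) ∈ spanUp E R W := by
      intro i
      rw [hiff R _ (((hW _ (hdW i)).up).conj _)]
      refine forall_congr' fun l => ?_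
      rw [h1]
      change f (_ - _) = 0 ↔ f _ = ∑ m, algebraMap E R (P l m) * f _
      rw [map_sub, map_sum, sub_eq_zero]
      have h3 : ∀ m, f (algebraMap E B₀ (P l m) * (Ad v (up E B₀ (d i)) : Cv k A B₀) (x m)) =
          algebraMap E R (P l m) * f ((Ad v (up E B₀ (d i)) : Cv k A B₀) (x m)) := by
        intro m
        rw [map_mul, f.commutes]
      simp_rw [h3]
    constructor
    · intro h D hD
      rw [hexp D hD, up_sum]
      have h4 : Ad (ptMap (f.restrictScalars k) v) (∑ i, up E R (D (x i) • d i)) =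
          ∑ i, algebraMap E R (D (x i)) • Ad (ptMap (f.restrictScalars k) v) (up E R (d i)) := by
        rw [Ad_def, Finset.mul_sum, Finset.sum_mul]
        refine Finset.sum_congr rfl fun i _ => ?_
        rw [up_smul, ← Ad_def, Ad_smul]
      rw [h4]
      exact Submodule.sum_mem _ fun i _ => Submodule.smul_mem _ _ ((h2 i).1 fun l => h i l)
    · intro h i l
      exact (h2 i).2 (h _ (hdW i)) l
  refine ⟨Ideal.span (Set.range (fun z : Fin n × Fin n => g u z.1 z.2) ∪
    Set.range (fun z : Fin n × Fin n => g u⁻¹ z.1 z.2)), ?_⟩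
  intro R _ _ _ _ f
  have h5 : (∀ b ∈ Ideal.span (Set.range (fun z : Fin n × Fin n => g u z.1 z.2) ∪
      Set.range (fun z : Fin n × Fin n => g u⁻¹ z.1 z.2)), f b = 0) ↔
      (∀ i l, f (g u i l) = 0) ∧ ∀ i l, f (g u⁻¹ i l) = 0 := by
    have h6 : (∀ b ∈ Ideal.span (Set.range (fun z : Fin n × Fin n => g u z.1 z.2) ∪
        Set.range (fun z : Fin n × Fin n => g u⁻¹ z.1 z.2)), f b = 0) ↔
        Ideal.span (Set.range (fun z : Fin n × Fin n => g u z.1 z.2) ∪
        Set.range (fun z : Fin n × Fin n => g u⁻¹ z.1 z.2)) ≤ RingHom.ker f := Iff.rfl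
    rw [h6, Ideal.span_le, Set.union_subset_iff]
    constructor
    · rintro ⟨h7, h8⟩
      exact ⟨fun i l => h7 ⟨(i, l), rfl⟩, fun i l => h8 ⟨(i, l), rfl⟩⟩
    · rintro ⟨h7, h8⟩
      constructor
      · rintro _ ⟨z, rfl⟩
        exact h7 z.1 z.2
      · rintro _ ⟨z, rfl⟩
        exact h8 z.1 z.2
  rw [h5, key u R f, key u⁻¹ R f, map_inv]
  constructor
  · rintro ⟨h7, h8⟩ D hD
    exact ⟨h7 D hD, h8 D hD⟩
  · intro h
    exact ⟨fun D hD => (h D hD).1, fun D hD => (h D hD).2⟩

end frame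

section hopf

open scoped TensorProduct in
/-- convolution product of two points, via `TensorProduct.map`. -/
lemma conv_eq_map {E B₀ C : Type u} [Field E] [CommRing B₀] [HopfAlgebra E B₀] [CommRing C] [Algebra E C]
    (p : B₀ →ₐ[E] C) (b : B₀) :
    (toConv (Algebra.TensorProduct.includeLeft.comp p) * toConv (Algebra.TensorProduct.includeRight.comp p) :
      WithConv (B₀ →ₐ[E] C ⊗[E] C)) b =
      TensorProduct.map p.toLinearMap p.toLinearMap (Coalgebra.comul (R := E) b) := by
  rw [AlgHom.convMul_apply]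
  generalize Coalgebra.comul (R := E) b = z
  induction z using TensorProduct.induction_on with
  | zero => rw [map_zero, map_zero]
  | add x y hx hy => rw [map_add, map_add, hx, hy]
  | tmul x y =>
    rw [Algebra.TensorProduct.lift_tmul]
    change (p x ⊗ₜ[E] (1 : C)) * ((1 : C) ⊗ₜ[E] p y) = p x ⊗ₜ[E] p y
    rw [Algebra.TensorProduct.tmul_mul_tmul, _root_.mul_one, _root_.one_mul]

variable {B₀ : Type u} [CommRing B₀] [HopfAlgebra E B₀] [Algebra k B₀] [IsScalarTower k E B₀]
variable {ρ₀ : A →ₐ[k] B₀} {W : Submodule E (Cv k A E)} {I : Ideal B₀}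

lemma res_one
    (hmul : ∀ (R : Type u) [CommRing R] [Algebra k R] [Algebra E R] [IsScalarTower k E R] (ψ ψ' : Pt E B₀ R),
      resPt ρ₀ (ψ * ψ') = resPt ρ₀ ψ * resPt ρ₀ ψ')
    (R : Type u) [CommRing R] [Algebra k R] [Algebra E R] [IsScalarTower k E R] :
      resPt ρ₀ (1 : Pt E B₀ R) = 1 := by
  have h := hmul R 1 1
  rw [_root_.mul_one] at h
  exact left_eq_mul.1 h

lemma res_inv
    (hmul : ∀ (R : Type u) [CommRing R] [Algebra k R] [Algebra E R] [IsScalarTower k E R] (ψ ψ' : Pt E B₀ R),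
      resPt ρ₀ (ψ * ψ') = resPt ρ₀ ψ * resPt ρ₀ ψ')
    (R : Type u) [CommRing R] [Algebra k R] [Algebra E R] [IsScalarTower k E R] (ψ : Pt E B₀ R) :
      resPt ρ₀ ψ⁻¹ = (resPt ρ₀ ψ)⁻¹ := by
  rw [eq_inv_iff_mul_eq_one, ← hmul, inv_mul_cancel, res_one hmul]

lemma stab_quot
    (hI : ∀ (R : Type u) [CommRing R] [Algebra k R] [Algebra E R] [IsScalarTower k E R] (ψ : Pt E B₀ R),
      (∀ b ∈ I, ψ b = 0) ↔ Stab W (resPt ρ₀ ψ))
    (R : Type u) [CommRing R] [Algebra k R] [Algebra E R] [IsScalarTower k E R] (i : (B₀ ⧸ I) →ₐ[E] R) :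
    Stab W (resPt ρ₀ (toConv (i.comp (Ideal.Quotient.mkₐ E I)))) := by
  refine (hI R (toConv (i.comp (Ideal.Quotient.mkₐ E I)))).1 fun b hb => ?_
  change i (Ideal.Quotient.mk I b) = 0
  rw [Ideal.Quotient.eq_zero_iff_mem.2 hb, map_zero]

lemma mul_mem_aux
    (hmul : ∀ (R : Type u) [CommRing R] [Algebra k R] [Algebra E R] [IsScalarTower k E R] (ψ ψ' : Pt E B₀ R),
      resPt ρ₀ (ψ * ψ') = resPt ρ₀ ψ * resPt ρ₀ ψ')
    (hI : ∀ (R : Type u) [CommRing R] [Algebra k R] [Algebra E R] [IsScalarTower k E R] (ψ : Pt E B₀ R),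
      (∀ b ∈ I, ψ b = 0) ↔ Stab W (resPt ρ₀ ψ))
    (R : Type u) [CommRing R] [Algebra k R] [Algebra E R] [IsScalarTower k E R] (i₁ i₂ : (B₀ ⧸ I) →ₐ[E] R)
    (b : B₀) (hb : b ∈ I) :
    (toConv (i₁.comp (Ideal.Quotient.mkₐ E I)) * toConv (i₂.comp (Ideal.Quotient.mkₐ E I)) : Pt E B₀ R) b = 0 := by
  have h3 : Stab W (resPt ρ₀ (toConv (i₁.comp (Ideal.Quotient.mkₐ E I)) *
      toConv (i₂.comp (Ideal.Quotient.mkₐ E I)) : Pt E B₀ R)) := by
    rw [hmul]
    exact stab_mul (stab_quot hI R i₁) (stab_quot hI R i₂)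
  exact (hI R _).2 h3 b hb

/-- The ideal of the stabilizer is a Hopf ideal. -/
theorem isHopfIdeal
    (hmul : ∀ (R : Type u) [CommRing R] [Algebra k R] [Algebra E R] [IsScalarTower k E R] (ψ ψ' : Pt E B₀ R),
      resPt ρ₀ (ψ * ψ') = resPt ρ₀ ψ * resPt ρ₀ ψ')
    (hI : ∀ (R : Type u) [CommRing R] [Algebra k R] [Algebra E R] [IsScalarTower k E R] (ψ : Pt E B₀ R),
      (∀ b ∈ I, ψ b = 0) ↔ Stab W (resPt ρ₀ ψ)) : I.IsHopfIdeal E := by
  have hco : (I.restrictScalars E).IsCoideal := by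
    refine ⟨?_, ?_⟩
    · intro b hb
      have h1 : Stab W (resPt ρ₀ (1 : Pt E B₀ E)) := by
        rw [res_one hmul]
        exact stab_one
      exact (hI E 1).2 h1 b hb
    · intro b hb
      have h4 := mul_mem_aux hmul hI (TensorProduct E (B₀ ⧸ I) (B₀ ⧸ I)) Algebra.TensorProduct.includeLeft
        Algebra.TensorProduct.includeRight b hb
      rw [conv_eq_map] at h4
      exact h4
  refine { hco with antipode_mem := ?_ }
  intro b hb
  have h0 : Stab W (resPt ρ₀ (toConv (Ideal.Quotient.mkₐ E I) : Pt E B₀ (B₀ ⧸ I))) :=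
    stab_quot hI (B₀ ⧸ I) (AlgHom.id E (B₀ ⧸ I))
  have h1 : Stab W (resPt ρ₀ (toConv (Ideal.Quotient.mkₐ E I) : Pt E B₀ (B₀ ⧸ I))⁻¹) := by
    rw [res_inv hmul]
    exact stab_inv h0
  have h2 := (hI _ _).2 h1 b hb
  exact Ideal.Quotient.eq_zero_iff_mem.1 h2

end hopf

/-- **Node P4.** -/
theorem main : P4_stab.{u} := by
  intro k E A _ _ _ _ _ _ W hW
  have haffA : IsAffine (SpecOver k A).left := inferInstanceAs (IsAffine (Spec (CommRingCat.of A)))
  have haff : IsAffine (Red.bc (bs k E) (SpecOver k A)).left := by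
    change IsAffine (pullback (SpecOver k A).hom (bs k E))
    exact isAffine_of_isAffineHom (pullback.fst (SpecOver k A).hom (bs k E))
  obtain ⟨B₀, _, _, _, _, ρ₀, e₀, he₀, hρ₀, hpts, hspan⟩ :=
    K796.Dict.main k E A (Red.bc (bs k E) (SpecOver k A)) (𝟙 _)
  obtain ⟨I, hI⟩ := exists_eqs W hW (toConv ρ₀ : Pt k A B₀)
  have hI' : ∀ (R : Type u) [CommRing R] [Algebra k R] [Algebra E R] [IsScalarTower k E R] (ψ : Pt E B₀ R),
      (∀ b ∈ I, ψ b = 0) ↔ Stab W (resPt ρ₀ ψ) := fun R _ _ _ _ ψ => hI R ψ.ofConv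
  have hHopf : I.IsHopfIdeal E := isHopfIdeal (fun R _ _ _ _ => (hpts R).1) hI'
  let π : B₀ →ₐc[E] B₀ ⧸ I := Bialgebra.Quotient.mkBialgHom I
  have hπs : Function.Surjective (π : B₀ →ₐ[E] B₀ ⧸ I) := Ideal.Quotient.mk_surjective
  have hmon : IsMonHom (specMap E (π : B₀ →ₐ[E] B₀ ⧸ I)) := isMonHom_specMap E π
  let j : SpecOver E (B₀ ⧸ I) ⟶ Red.bc (bs k E) (SpecOver k A) := specMap E (π : B₀ →ₐ[E] B₀ ⧸ I) ≫ e₀.inv
  have hcl : IsClosedImmersion (specMap E (π : B₀ →ₐ[E] B₀ ⧸ I)).left :=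
    IsClosedImmersion.spec_of_surjective _ hπs
  have hiso : IsIso e₀.inv.left := inferInstanceAs (IsIso ((Over.forget _).map e₀.inv))
  have hcl2 : IsClosedImmersion e₀.inv.left := IsClosedImmersion.instOfIsIsoScheme e₀.inv.left
  have hspan0 : Submodule.span E (Set.range ρ₀) = ⊤ := hspan (by
    change IsClosedImmersion (𝟙 _)
    infer_instance)
  have hft : Algebra.FiniteType E B₀ := by
    obtain ⟨s, hs⟩ := (Algebra.FiniteType.out : (⊤ : Subalgebra k A).FG)
    classical
    refine ⟨⟨s.image ρ₀, ?_⟩⟩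
    rw [eq_top_iff]
    intro b _
    have h1 : b ∈ Submodule.span E (Set.range ρ₀) := by rw [hspan0]; trivial
    have h2 : ∀ a : A, ρ₀ a ∈ Algebra.adjoin E ((s.image ρ₀ : Finset B₀) : Set B₀) := by
      intro a
      have ha : a ∈ Algebra.adjoin k (s : Set A) := by rw [hs]; trivial
      induction ha using Algebra.adjoin_induction with
      | mem x hx => exact Algebra.subset_adjoin (by rw [Finset.coe_image]; exact ⟨x, hx, rfl⟩)
      | algebraMap r =>
        rw [ρ₀.commutes, IsScalarTower.algebraMap_apply k E B₀]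
        exact Subalgebra.algebraMap_mem _ _
      | add x y _ _ hx hy => rw [map_add]; exact add_mem hx hy
      | mul x y _ _ hx hy => rw [map_mul]; exact mul_mem hx hy
    have h3 : Submodule.span E (Set.range ρ₀) ≤
        Subalgebra.toSubmodule (Algebra.adjoin E ((s.image ρ₀ : Finset B₀) : Set B₀)) := by
      rw [Submodule.span_le]
      rintro _ ⟨a, rfl⟩
      exact h2 a
    exact h3 h1
  refine ⟨B₀ ⧸ I, inferInstance, inferInstance, inferInstance, inferInstance,
    (Ideal.Quotient.mkₐ k I).comp ρ₀, j, inferInstance, ?_, ?_, ?_, ?_, ?_⟩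
  · exact MorphismProperty.comp_mem (W := @IsClosedImmersion) _ _ hcl hcl2
  · exact Algebra.FiniteType.of_surjective (π : B₀ →ₐ[E] B₀ ⧸ I) hπs
  · have h1 : e₀.inv.left ≫ pullback.fst (SpecOver k A).hom (bs k E) =
        Spec.map (CommRingCat.ofHom ρ₀.toRingHom) := by
      rw [← hρ₀]
      congr 1
    refine (Category.assoc _ _ _).trans ?_
    refine (congrArg (fun q => Spec.map (CommRingCat.ofHom (π : B₀ →ₐ[E] B₀ ⧸ I).toRingHom) ≫ q) h1).trans ?_
    exact (Spec.map_comp _ _).symm.trans rfl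
  · rw [Submodule.eq_top_iff']
    intro b
    obtain ⟨b, rfl⟩ := hπs b
    have h1 : b ∈ Submodule.span E (Set.range ρ₀) := by rw [hspan0]; trivial
    induction h1 using Submodule.span_induction with
    | mem x hx =>
      obtain ⟨a, rfl⟩ := hx
      exact Submodule.subset_span ⟨a, rfl⟩
    | zero => rw [map_zero]; exact zero_mem _
    | add x y _ _ hx hy => rw [map_add]; exact add_mem hx hy
    | smul r x _ hx => rw [map_smul]; exact Submodule.smul_mem _ _ hx
  · intro R _ _ _ _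
    have hres : ∀ ψ : Pt E (B₀ ⧸ I) R, resPt ((Ideal.Quotient.mkₐ k I).comp ρ₀) ψ =
        resPt ρ₀ (toConv (ψ.ofConv.comp (π : B₀ →ₐ[E] B₀ ⧸ I)) : Pt E B₀ R) := fun ψ => rfl
    refine ⟨?_, ?_, ?_⟩
    · intro ψ ψ'
      rw [hres, hres, hres, ← (hpts R).1]
      refine congrArg (resPt ρ₀) ?_
      exact WithConv.ofConv_injective (AlgHom.convMul_comp_bialgHom_distrib ψ ψ' π)
    · intro ψ ψ' h
      rw [hres, hres] at h
      have h1 := (hpts R).2.1 h
      apply WithConv.ext
      apply AlgHom.ext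
      intro b
      obtain ⟨b, rfl⟩ := hπs b
      exact DFunLike.congr_fun (congrArg WithConv.ofConv h1) b
    · intro φ
      constructor
      · rintro ⟨ψ, rfl⟩
        rw [hres, ← hI']
        intro b hb
        change ψ (Ideal.Quotient.mk I b) = 0
        rw [Ideal.Quotient.eq_zero_iff_mem.2 hb]
        exact map_zero ψ.ofConv
      · intro h
        obtain ⟨ψ₀, rfl⟩ := (hpts R).2.2 inferInstance φ
        rw [← hI'] at h
        refine ⟨toConv (Ideal.Quotient.liftₐ I ψ₀.ofConv h), ?_⟩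
        rw [hres]
        congr 1

end

end K646.RatStab
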